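import Cfsg.Agent.H58.Rec.CentC
import Cfsg.Agent.SignalizersComponents.CoprimeGen

/-!
# Recognition by spectrum: the centralizer trick with an `s`-subgroup (helper574)

`Mod.killS` : `a ∈ X` of prime order `s ≠ p`, `P` an `s`-subgroup of `C_X(a)` containing `a`, `c ∈ C_X(a)` of order `n`
normalizing `P`, `s ∤ n`, acting freely on `P / ⟨a⟩`; `P` contains a noncyclic elementary abelian subgroup `A` whose
nontrivial elements are all conjugate into `⟨a⟩`. Then `Y` has an element of order `s n p`.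
-/

set_option autoImplicit false

namespace Cfsg.Agent.H574.Rec

open Subgroup Cfsg.Agent.H58.Rec
open Cfsg.Agent.H455.Isolated (exists_pow_orderOf)

universe u v w

section

variable {Y : Type u} {X : Type v} [Group Y] [Finite Y] [Group X] {τ : Y →* X} {p : ℕ}

omit [Finite Y] in
/-- composition with an isomorphism -/
theorem _root_.Cfsg.Agent.H58.Rec.Mod.comp {X' : Type w} [Group X'] (h : Mod τ p) (e : X ≃* X') :
    Mod (e.toMonoidHom.comp τ) p := by
  have hk : (e.toMonoidHom.comp τ).ker = τ.ker := by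
    ext y
    rw [MonoidHom.mem_ker, MonoidHom.mem_ker]
    show e (τ y) = 1 ↔ _
    rw [MulEquiv.map_eq_one_iff]
  refine ⟨e.surjective.comp h.surj, ?_, ?_, ?_, ?_⟩
  · rw [hk]; exact h.comm
  · rw [hk]; exact h.pow
  · rw [hk]; exact h.ne
  · rw [hk]; exact h.cent

omit [Finite Y] in
/-- commuting with the elements of the kernel depends on the image only -/
theorem comm_iff (h : Mod τ p) {y y' v : Y} (hyy : τ y = τ y') (hv : v ∈ τ.ker) : y * v = v * y ↔ y' * v = v * y' := by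
  have key : ∀ y y' : Y, τ y = τ y' → y * v = v * y → y' * v = v * y' := by
    intro y y' hyy hyv
    have h1 : y⁻¹ * y' ∈ τ.ker := by
      rw [MonoidHom.mem_ker, map_mul, map_inv, hyy, inv_mul_cancel]
    have h2 := h.comm _ h1 v hv
    calc y' * v = y * ((y⁻¹ * y') * v) := by group
      _ = y * v * (y⁻¹ * y') := by rw [h2]; group
      _ = v * y * (y⁻¹ * y') := by rw [hyv]
      _ = v * y' := by group
  exact ⟨key y y' hyy, key y' y hyy.symm⟩

omit [Finite Y] in
theorem isPGroup_ker (h : Mod τ p) : IsPGroup p τ.ker := by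
  rintro ⟨x, hx⟩
  exact ⟨1, by rw [pow_one]; exact Subtype.ext (h.pow x hx)⟩

theorem cop_ker (h : Mod τ p) (hp : p.Prime) {s : ℕ} (hs : s.Prime) (hsp : s ≠ p) : (Nat.card τ.ker).Coprime s := by
  have : Fact p.Prime := ⟨hp⟩
  obtain ⟨k, hk⟩ := IsPGroup.iff_card.1 (isPGroup_ker h)
  rw [hk]
  exact Nat.Coprime.pow_left k ((Nat.coprime_primes hp hs).2 (Ne.symm hsp))

omit [Finite Y] in
/-- a lift of order `s` -/
theorem exists_lift_order (h : Mod τ p) (hp : p.Prime) {s : ℕ} (hs : s.Prime) (hsp : s ≠ p) {a : X}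
    (ha : orderOf a = s) : ∃ b : Y, τ b = a ∧ orderOf b = s := by
  obtain ⟨y, hy⟩ := h.surj a
  have h1 : y ^ s ∈ τ.ker := by
    rw [MonoidHom.mem_ker, map_pow, hy, ← ha, pow_orderOf_eq_one]
  have h2 : (y ^ p) ^ s = 1 := by
    rw [← pow_mul, mul_comm, pow_mul]
    exact h.pow _ h1
  obtain ⟨m, hm⟩ := exists_pow_eq_self_of_coprime (n := p) (x := a) (by
    rw [ha]
    exact (Nat.coprime_primes hp hs).2 (Ne.symm hsp))
  have h3 : τ ((y ^ p) ^ m) = a := by rw [map_pow, map_pow, hy, hm]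
  refine ⟨(y ^ p) ^ m, h3, ?_⟩
  have h4 : orderOf ((y ^ p) ^ m) ∣ s := by
    apply orderOf_dvd_of_pow_eq_one
    rw [← pow_mul, mul_comm, pow_mul, h2, one_pow]
  rcases (Nat.dvd_prime hs).1 h4 with h5 | h5
  · exfalso
    rw [orderOf_eq_one_iff] at h5
    rw [h5, map_one] at h3
    rw [← h3, orderOf_one] at ha
    exact hs.one_lt.ne ha
  · exact h5

/-- the centralizer covers -/
theorem cent_cover (h : Mod τ p) (hp : p.Prime) {s : ℕ} (hs : s.Prime) (hsp : s ≠ p) {a : X} {b : Y}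
    (hb : τ b = a) (hbs : orderOf b = s) : ∀ x ∈ centralizer ({a} : Set X), ∃ g ∈ centralizer ({b} : Set Y), τ g = x := by
  have hfs : Fact s.Prime := ⟨hs⟩
  intro x hx
  obtain ⟨g, rfl⟩ := h.surj x
  have hB : IsPGroup s (zpowers b) := IsPGroup.of_card (n := 1) (by rw [Nat.card_zpowers, hbs, pow_one])
  have h1 := Cfsg.Agent.PLocal.CoprimeLift.map_centralizer_mk (p := s) τ.ker (zpowers b) (cop_ker h hp hs hsp) hB
  have h2 : (g : Y ⧸ τ.ker) ∈
      centralizer (((zpowers b).map (QuotientGroup.mk' τ.ker) : Subgroup (Y ⧸ τ.ker)) : Set (Y ⧸ τ.ker)) := by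
    rw [mem_centralizer_iff]
    rintro - ⟨z, hz, rfl⟩
    obtain ⟨k, rfl⟩ := mem_zpowers_iff.1 hz
    rw [QuotientGroup.mk'_apply, ← QuotientGroup.mk_mul, ← QuotientGroup.mk_mul, QuotientGroup.eq,
      MonoidHom.mem_ker]
    have h3 : Commute a (τ g) := (mem_centralizer_singleton_iff.1 hx).symm
    have h4 : a ^ k * τ g = τ g * a ^ k := (h3.zpow_left k).eq
    rw [map_mul, map_inv, map_mul, map_mul, map_zpow, hb, h4]
    group
  rw [← h1] at h2
  obtain ⟨g', hg', hgg⟩ := h2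
  refine ⟨g', ?_, ?_⟩
  · rw [mem_centralizer_singleton_iff]
    exact (mem_centralizer_iff.1 hg' b (mem_zpowers b)).symm
  · rw [QuotientGroup.mk'_apply, QuotientGroup.eq, MonoidHom.mem_ker, map_mul, map_inv] at hgg
    exact (inv_mul_eq_one.1 hgg)

/-- the fixed points in the kernel of a lift -/
def fixK (τ : Y →* X) (y : Y) : Subgroup Y := τ.ker ⊓ centralizer ({y} : Set Y)

omit [Finite Y] in
theorem mem_fixK {y v : Y} : v ∈ fixK τ y ↔ v ∈ τ.ker ∧ y * v = v * y := by
  rw [fixK, mem_inf, mem_centralizer_singleton_iff]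
  exact ⟨fun h => ⟨h.1, h.2.symm⟩, fun h => ⟨h.1, h.2.symm⟩⟩

omit [Finite Y] in
theorem card_fixK_conj (g y : Y) : Nat.card (fixK τ (g * y * g⁻¹)) = Nat.card (fixK τ y) := by
  have hn : τ.ker.Normal := inferInstance
  have h1 : fixK τ (g * y * g⁻¹) = (fixK τ y).map (MulAut.conj g).toMonoidHom := by
    ext v
    rw [mem_fixK, mem_map]
    constructor
    · rintro ⟨h1, h2⟩
      refine ⟨g⁻¹ * v * g, mem_fixK.2 ⟨?_, ?_⟩, ?_⟩
      · have := hn.conj_mem v h1 g⁻¹
        rwa [inv_inv] at this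
      · calc y * (g⁻¹ * v * g) = g⁻¹ * ((g * y * g⁻¹) * v) * g := by group
          _ = g⁻¹ * (v * (g * y * g⁻¹)) * g := by rw [h2]
          _ = g⁻¹ * v * g * y := by group
      · show g * (g⁻¹ * v * g) * g⁻¹ = v
        group
    · rintro ⟨w, hw, rfl⟩
      rw [mem_fixK] at hw
      refine ⟨hn.conj_mem w hw.1 g, ?_⟩
      show g * y * g⁻¹ * (g * w * g⁻¹) = g * w * g⁻¹ * (g * y * g⁻¹)
      calc g * y * g⁻¹ * (g * w * g⁻¹) = g * (y * w) * g⁻¹ := by group
        _ = g * (w * y) * g⁻¹ := by rw [hw.2]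
        _ = _ := by group
  rw [h1, card_map_of_injective (MulAut.conj g).injective]

/-- **the trick** -/
theorem _root_.Cfsg.Agent.H58.Rec.Mod.killS (h : Mod τ p) (hp : p.Prime) {s : ℕ} (hs : s.Prime) (hsp : s ≠ p) {a : X}
    (ha : orderOf a = s) {P : Subgroup X} (hP : IsPGroup s P) (hPa : ∀ x ∈ P, x * a = a * x)
    {c : X} (hca : c * a = a * c) (hcP : c ∈ normalizer (P : Set X)) {n : ℕ} (hcn : orderOf c = n) (hsn : ¬ s ∣ n)
    (hfree : ∀ j, 0 < j → j < n → ∀ x ∈ P, x * c ^ j * x⁻¹ * (c ^ j)⁻¹ ∈ zpowers a → x ∈ zpowers a)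
    {A : Subgroup X} (hAP : A ≤ P) (hAe : Cfsg.IsElementaryAbelian s A) (hA2 : s ^ 2 ≤ Nat.card A)
    (hpure : ∀ x ∈ A, x ≠ 1 → ∃ g : X, g * x * g⁻¹ ∈ zpowers a) : HasOrd Y (s * (n * p)) := by
  classical
  have hfX : Finite X := Finite.of_surjective τ h.surj
  have hfs : Fact s.Prime := ⟨hs⟩
  have hfp : Fact p.Prime := ⟨hp⟩
  have hVn : τ.ker.Normal := inferInstance
  have hsV := cop_ker h hp hs hsp
  obtain ⟨b, hb, hbs⟩ := exists_lift_order h hp hs hsp ha
  -- conjugates of elements of `A`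
  have hconj : ∀ y : Y, τ y ∈ A → τ y ≠ 1 → Nat.card (fixK τ y) = Nat.card (fixK τ b) := by
    intro y hyA hy1
    obtain ⟨g, hg⟩ := hpure _ hyA hy1
    obtain ⟨g, rfl⟩ := h.surj g
    have h1 : τ (g * y * g⁻¹) ∈ zpowers a := by simpa using hg
    have hne : τ (g * y * g⁻¹) ≠ 1 := by
      intro h2
      apply hy1
      rw [map_mul, map_mul, map_inv] at h2
      exact conj_eq_one_iff.1 h2
    have h3 : zpowers (τ (g * y * g⁻¹)) = zpowers a := by
      apply eq_of_le_of_card_ge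
      · rw [zpowers_le]; exact h1
      · rw [Nat.card_zpowers, Nat.card_zpowers, ha]
        have h4 : orderOf (τ (g * y * g⁻¹)) ∣ s := by
          have := orderOf_dvd_natCard (⟨_, h1⟩ : zpowers a)
          rwa [Subgroup.orderOf_mk, Nat.card_zpowers, ha] at this
        rcases (Nat.dvd_prime hs).1 h4 with h5 | h5
        · exact absurd (orderOf_eq_one_iff.1 h5) hne
        · exact h5.ge
    rw [← card_fixK_conj g y]
    -- both have the same fixed points
    have h5 : fixK τ (g * y * g⁻¹) = fixK τ b := by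
      ext v
      rw [mem_fixK, mem_fixK]
      constructor
      · rintro ⟨hv, hv2⟩
        refine ⟨hv, ?_⟩
        have h6 : a ∈ zpowers (τ (g * y * g⁻¹)) := by rw [h3]; exact mem_zpowers a
        obtain ⟨k, hk⟩ := mem_zpowers_iff.1 h6
        rw [← comm_iff h (y := (g * y * g⁻¹) ^ k) (y' := b) (by rw [map_zpow, hk, hb]) hv]
        exact ((show Commute (g * y * g⁻¹) v from hv2).zpow_left k).eq
      · rintro ⟨hv, hv2⟩
        refine ⟨hv, ?_⟩
        obtain ⟨k, hk⟩ := mem_zpowers_iff.1 h1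
        rw [← comm_iff h (y := b ^ k) (y' := g * y * g⁻¹) (by rw [map_zpow, hb, hk]) hv]
        exact ((show Commute b v from hv2).zpow_left k).eq
    rw [h5]
  -- `P` does not centralize the fixed points of `a`
  have hact : ∃ y, τ y ∈ P ∧ ∃ v ∈ fixK τ b, y * v ≠ v * y := by
    by_contra hno
    push Not at hno
    obtain ⟨T, -, hT, hTm, -, -⟩ := Cfsg.Agent.H413.FrobLift.exists_lift τ h.surj hs A (hP.to_le hAP)
      (c := 1) (one_mem _)
    have htriv : ∀ t ∈ T, t ∈ τ.ker → t = 1 := by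
      intro t ht htk
      obtain ⟨k, hk⟩ := (IsPGroup.iff_orderOf.mp hT) ⟨t, ht⟩
      rw [Subgroup.orderOf_mk] at hk
      have h1 : orderOf t ∣ p := orderOf_dvd_of_pow_eq_one (h.pow t htk)
      rcases (Nat.dvd_prime hp).1 h1 with h2 | h2
      · exact orderOf_eq_one_iff.1 h2
      · exfalso
        rw [h2] at hk
        have h3 : p ∣ s ^ k := hk ▸ dvd_rfl
        exact hsp ((Nat.prime_dvd_prime_iff_eq hp hs).1 (hp.dvd_of_dvd_pow h3)).symm
    have hTA : ∀ t ∈ T, τ t ∈ A := fun t ht => hTm ▸ ⟨t, ht, rfl⟩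
    have hTinj : ∀ t ∈ T, ∀ t' ∈ T, τ t = τ t' → t = t' := by
      intro t ht t' ht' h1
      have h2 : t * t'⁻¹ = 1 := by
        apply htriv _ (T.mul_mem ht (T.inv_mem ht'))
        rw [MonoidHom.mem_ker, map_mul, map_inv, h1, mul_inv_cancel]
      exact mul_inv_eq_one.1 h2
    have hTe : Cfsg.IsElementaryAbelian s T := by
      refine ⟨⟨⟨fun t t' => Subtype.ext ?_⟩⟩, fun t ht => ?_⟩
      · apply hTinj _ (T.mul_mem t.2 t'.2) _ (T.mul_mem t'.2 t.2)
        rw [map_mul, map_mul]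
        exact congrArg Subtype.val (hAe.1.is_comm.comm ⟨τ t, hTA t t.2⟩ ⟨τ t', hTA t' t'.2⟩)
      · apply hTinj _ (T.pow_mem ht s) _ (one_mem T)
        rw [map_pow, map_one]
        exact hAe.2 _ (hTA t ht)
    have hT2 : s ^ 2 ≤ Nat.card T := by
      refine hA2.trans ?_
      rw [← hTm]
      exact Nat.le_of_dvd Nat.card_pos (Subgroup.card_map_dvd T τ)
    have hgen := Cfsg.Agent.SignalizersComponents.CoprimeGen.le_iSup_centralizer_ne_one (p := s) (Z := τ.ker) hTe hT2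
      ((Nat.Prime.coprime_iff_not_dvd hs).1 hsV.symm) (by rw [normalizer_eq_top]; exact le_top)
    have hle : τ.ker ≤ fixK τ b := by
      refine hgen.trans (iSup_le ?_)
      rintro ⟨t, ht, ht1⟩
      have h1 : τ t ≠ 1 := fun h1 => ht1 (htriv t ht h1)
      have h2 : fixK τ b ≤ fixK τ t := by
        intro v hv
        exact mem_fixK.2 ⟨(mem_fixK.1 hv).1, hno t (hAP (hTA t ht)) v hv⟩
      have h3 : fixK τ b = fixK τ t :=
        eq_of_le_of_card_ge h2 (hconj t (hTA t ht) h1).le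
      rw [h3]
      exact le_refl _
    have h4 : b ∈ centralizer (τ.ker : Set Y) :=
      mem_centralizer_iff.2 fun v hv => (mem_fixK.1 (hle hv)).2.symm
    have h5 := h.cent h4
    rw [MonoidHom.mem_ker, hb] at h5
    rw [h5, orderOf_one] at ha
    exact hs.one_lt.ne ha
  -- the quotients
  set C := centralizer ({b} : Set Y) with hC
  set D := centralizer ({a} : Set X) with hD
  have hCb : ∀ c ∈ C, Commute c b := fun c hc => mem_centralizer_singleton_iff.1 hc
  let τ' : C →* D := (τ.comp C.subtype).codRestrict _ (by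
    rintro ⟨c, hc⟩
    rw [hD, mem_centralizer_singleton_iff]
    show τ c * a = a * τ c
    rw [← hb, ← map_mul, ← map_mul, (hCb c hc).eq])
  have hτ' : ∀ c : C, ((τ' c : D) : X) = τ c := fun c => rfl
  have hτs : Function.Surjective τ' := by
    rintro ⟨x, hx⟩
    obtain ⟨g, hg, hgx⟩ := cent_cover h hp hs hsp hb hbs x hx
    exact ⟨⟨g, hg⟩, Subtype.ext hgx⟩
  let b' : C := ⟨b, mem_centralizer_singleton_iff.2 rfl⟩
  let a' : D := ⟨a, mem_centralizer_singleton_iff.2 rfl⟩
  have hbn : (zpowers b').Normal := by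
    refine ⟨fun x hx g => ?_⟩
    obtain ⟨k, rfl⟩ := mem_zpowers_iff.1 hx
    have h1 : Commute g b' := Subtype.ext (hCb g g.2).eq
    rw [(h1.zpow_right k).eq, mul_inv_cancel_right]
    exact ⟨k, rfl⟩
  have han : (zpowers a').Normal := by
    refine ⟨fun x hx g => ?_⟩
    obtain ⟨k, rfl⟩ := mem_zpowers_iff.1 hx
    have h1 : Commute g a' := Subtype.ext (mem_centralizer_singleton_iff.1 g.2)
    rw [(h1.zpow_right k).eq, mul_inv_cancel_right]
    exact ⟨k, rfl⟩
  have hba : τ' b' = a' := Subtype.ext hb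
  have hle : zpowers b' ≤ ((QuotientGroup.mk' (zpowers a')).comp τ').ker := by
    rw [zpowers_le, MonoidHom.mem_ker]
    show QuotientGroup.mk' (zpowers a') (τ' b') = 1
    rw [hba]
    exact (QuotientGroup.eq_one_iff _).2 (mem_zpowers a')
  let σ : C ⧸ zpowers b' →* D ⧸ zpowers a' := QuotientGroup.lift _ ((QuotientGroup.mk' (zpowers a')).comp τ') hle
  have hσ : ∀ y : C, σ (QuotientGroup.mk' _ y) = QuotientGroup.mk' _ (τ' y) := fun y => rfl
  have hσs : Function.Surjective σ := by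
    intro x
    obtain ⟨x, rfl⟩ := QuotientGroup.mk'_surjective _ x
    obtain ⟨y, rfl⟩ := hτs x
    exact ⟨QuotientGroup.mk' _ y, rfl⟩
  -- the kernel
  have hσk : ∀ z : C ⧸ zpowers b', z ∈ σ.ker → ∃ v : C, (v : Y) ∈ τ.ker ∧ QuotientGroup.mk' _ v = z := by
    intro z hz
    obtain ⟨y, rfl⟩ := QuotientGroup.mk'_surjective _ z
    rw [MonoidHom.mem_ker, hσ] at hz
    have h1 : τ' y ∈ zpowers a' := (QuotientGroup.eq_one_iff _).1 hz
    obtain ⟨k, hk⟩ := mem_zpowers_iff.1 h1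
    refine ⟨y * (b' ^ k)⁻¹, ?_, ?_⟩
    · show τ ((y : Y) * ((b' ^ k : C) : Y)⁻¹) = 1
      have h2 : τ (y : Y) = a ^ k := by
        have := congrArg Subtype.val hk
        exact this.symm
      have h3 : ((b' ^ k : C) : Y) = b ^ k := rfl
      rw [map_mul, map_inv, h2, h3, map_zpow, hb, mul_inv_cancel]
    · rw [map_mul]
      have h3 : QuotientGroup.mk' (zpowers b') (b' ^ k)⁻¹ = 1 :=
        (QuotientGroup.eq_one_iff _).2 (inv_mem (zpow_mem (mem_zpowers b') k))
      rw [h3, mul_one]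
  -- the subgroup and the element below
  have hPD : P ≤ D := fun x hx => mem_centralizer_singleton_iff.2 (hPa x hx)
  let c' : D := ⟨c, mem_centralizer_singleton_iff.2 hca⟩
  let P' : Subgroup D := P.subgroupOf D
  let P'' : Subgroup (D ⧸ zpowers a') := P'.map (QuotientGroup.mk' (zpowers a'))
  have hP' : IsPGroup s P' := by
    refine hP.of_injective (H := P') ((D.subtype.comp P'.subtype).codRestrict P fun x => x.2) ?_
    intro x y hxy
    have h1 : ((x : D) : X) = ((y : D) : X) := congrArg (fun z : P => (z : X)) hxy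
    exact Subtype.ext (Subtype.ext h1)
  have hP'' : IsPGroup s P'' := hP'.map _
  have hconjP : ∀ x ∈ P, c * x * c⁻¹ ∈ P := fun x hx => (mem_normalizer_iff.1 hcP x).1 hx
  have hc'' : QuotientGroup.mk' (zpowers a') c' ∈ normalizer (P'' : Set (D ⧸ zpowers a')) := by
    apply mem_normalizer_fintype
    rintro _ ⟨x, hx, rfl⟩
    refine ⟨c' * x * c'⁻¹, ?_, by rw [map_mul, map_mul, map_inv]⟩
    exact hconjP x hx
  have hzs : ∀ x ∈ zpowers a', x ^ s = 1 := by
    intro x hx
    obtain ⟨k, rfl⟩ := mem_zpowers_iff.1 hx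
    rw [← zpow_natCast, ← zpow_mul, mul_comm, zpow_mul, zpow_natCast]
    have h1 : a' ^ s = 1 := Subtype.ext (by show a ^ s = 1; rw [← ha]; exact pow_orderOf_eq_one a)
    rw [h1, one_zpow]
  have hcn' : orderOf c' = n := by rw [← Subgroup.orderOf_coe]; exact hcn
  have hoc : orderOf (QuotientGroup.mk' (zpowers a') c') = n := by
    apply Nat.dvd_antisymm
    · rw [← hcn']
      exact orderOf_map_dvd _ _
    · set j := orderOf (QuotientGroup.mk' (zpowers a') c') with hj
      have h1 : QuotientGroup.mk' (zpowers a') (c' ^ j) = 1 := by rw [map_pow, hj, pow_orderOf_eq_one]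
      have h2 : c' ^ j ∈ zpowers a' := (QuotientGroup.eq_one_iff _).1 h1
      have h3 := hzs _ h2
      rw [← pow_mul, ← orderOf_dvd_iff_pow_eq_one, hcn'] at h3
      exact Nat.Coprime.dvd_of_dvd_mul_right ((Nat.Prime.coprime_iff_not_dvd hs).2 hsn).symm h3
  have hord : HasOrd (C ⧸ zpowers b') (n * p) := by
    refine frob_ord σ hσs hp ?_ ?_ hs hsp hP'' hc'' hoc ?_ ?_
    · intro x hx y hy
      obtain ⟨x', hx', rfl⟩ := hσk x hx
      obtain ⟨y', hy', rfl⟩ := hσk y hy
      rw [← map_mul, ← map_mul]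
      congr 1
      exact Subtype.ext (h.comm _ hx' _ hy')
    · intro x hx
      obtain ⟨x', hx', rfl⟩ := hσk x hx
      rw [← map_pow]
      have : x' ^ p = 1 := Subtype.ext (h.pow _ hx')
      rw [this, map_one]
    · rintro j h0 hj _ ⟨x, hx, rfl⟩ h1
      apply (QuotientGroup.eq_one_iff _).2
      have h2 : QuotientGroup.mk' (zpowers a') (x * c' ^ j * x⁻¹ * (c' ^ j)⁻¹) = 1 := by
        rw [map_mul, map_mul, map_mul, map_inv, map_inv, map_pow, h1]
        group
      have h3 : x * c' ^ j * x⁻¹ * (c' ^ j)⁻¹ ∈ zpowers a' := (QuotientGroup.eq_one_iff _).1 h2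
      obtain ⟨k, hk⟩ := mem_zpowers_iff.1 h3
      have h4 : (x : X) * c ^ j * (x : X)⁻¹ * (c ^ j)⁻¹ ∈ zpowers a := ⟨k, congrArg Subtype.val hk⟩
      obtain ⟨m, hm⟩ := mem_zpowers_iff.1 (hfree j h0 hj x hx h4)
      exact ⟨m, Subtype.ext hm⟩
    · obtain ⟨y, hyP, v, hv, hyv⟩ := hact
      obtain ⟨g, hg, hgy⟩ := cent_cover h hp hs hsp hb hbs (τ y) (hPD hyP)
      have hvk := (mem_fixK.1 hv).1
      have hvC : v ∈ C := mem_centralizer_singleton_iff.2 (mem_fixK.1 hv).2.symm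
      refine ⟨QuotientGroup.mk' _ (⟨g, hg⟩ : C), ?_, QuotientGroup.mk' _ (⟨v, hvC⟩ : C), ?_, ?_⟩
      · rw [hσ]
        refine ⟨τ' ⟨g, hg⟩, ?_, rfl⟩
        show τ g ∈ P
        rw [hgy]
        exact hyP
      · rw [MonoidHom.mem_ker, hσ]
        have h1 : τ' ⟨v, hvC⟩ = 1 := Subtype.ext hvk
        rw [h1, map_one]
      · intro h1
        apply hyv
        rw [comm_iff h hgy.symm hvk]
        -- the commutator lies in `⟨b⟩` and in the kernel
        have h2 : QuotientGroup.mk' (zpowers b') ((⟨g, hg⟩ : C) * ⟨v, hvC⟩ * (⟨g, hg⟩ : C)⁻¹ * (⟨v, hvC⟩ : C)⁻¹) = 1 := by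
          rw [map_mul, map_mul, map_mul, map_inv, map_inv, h1]
          group
        have h3 := (QuotientGroup.eq_one_iff _).1 h2
        obtain ⟨k, hk⟩ := mem_zpowers_iff.1 h3
        have h4 : b ^ k = g * v * g⁻¹ * v⁻¹ := congrArg Subtype.val hk
        have h5 : g * v * g⁻¹ * v⁻¹ ∈ τ.ker := mul_mem (hVn.conj_mem v hvk g) (inv_mem hvk)
        have h6 : g * v * g⁻¹ * v⁻¹ = 1 := by
          have h7 : (g * v * g⁻¹ * v⁻¹) ^ p = 1 := h.pow _ h5
          have h8 : (g * v * g⁻¹ * v⁻¹) ^ s = 1 := by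
            rw [← h4, ← zpow_natCast, ← zpow_mul, mul_comm, zpow_mul, zpow_natCast, ← hbs, pow_orderOf_eq_one, one_zpow]
          have h9 := Nat.eq_one_of_dvd_coprimes ((Nat.coprime_primes hp hs).2 (Ne.symm hsp))
            (orderOf_dvd_of_pow_eq_one h7) (orderOf_dvd_of_pow_eq_one h8)
          exact orderOf_eq_one_iff.1 h9
        calc g * v = (g * v * g⁻¹ * v⁻¹) * (v * g) := by group
          _ = v * g := by rw [h6, one_mul]
  -- back to `C`
  have hsp' : ¬ s ∣ p := fun h1 => hsp ((Nat.prime_dvd_prime_iff_eq hs hp).1 h1)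
  have hsnp : ¬ s ∣ n * p := fun h1 => (hs.dvd_mul.1 h1).elim hsn hsp'
  obtain ⟨z, hz⟩ := hord
  obtain ⟨g, rfl⟩ := QuotientGroup.mk'_surjective _ z
  -- an element of order `n * p` of `C`
  have h1 : n * p ∣ orderOf g := hz ▸ orderOf_map_dvd _ g
  obtain ⟨k, hk⟩ := exists_pow_orderOf h1
  have h2 : orderOf ((g ^ k : C) : Y) = n * p := by rw [Subgroup.orderOf_coe, hk]
  exact hasOrd_mul (hCb _ (g ^ k).2).symm hbs h2 ((Nat.Prime.coprime_iff_not_dvd hs).2 hsnp)

end

end Cfsg.Agent.H574.Rec
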