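import Cfsg.Agent.H58.Rec.Tools
import Cfsg.Agent.H574.Rec.KillS
import Cfsg.Agent.H513.NilpTh
import Cfsg.Agent.H981.SCTh

/-!
# Element orders of the Thompson group (helper574, for S3484)

* `alt9` : 20, 21, 27 do not divide the orders of the elements of `A9`;
* `no40`, `no42`, `no54`, `no45`, `no_of_na` : orders which do not occur in `Th`;
* `frob` : the Frobenius group `19 : 18`;
* `kill_two` : a module in characteristic two gives an element of order 40.
-/

set_option autoImplicit false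
set_option maxRecDepth 100000
set_option linter.unusedSectionVars false

namespace Cfsg.Agent.H574.Rec.Th

open Subgroup Cfsg
open Cfsg.Agent.Th.Base Cfsg.Agent.Th.Word Cfsg.Agent.Th.RelWords Cfsg.Agent.Th.PermTab
  Cfsg.Agent.Th.KOracle Cfsg.Agent.Th.KPerm Cfsg.Agent.Th.NineAct Cfsg.Agent.Th.CStruct
  Cfsg.Agent.Th.COracleDef Cfsg.Agent.Th.COracleSound Cfsg.Agent.Th.IndexUpper
open Cfsg.Agent.KFacts.Th.Mask Cfsg.Agent.KFacts.Th.Struct
open Cfsg.Agent.CpAutTh.Data Cfsg.Agent.CpAutTh.Alt Cfsg.Agent.CpAutTh.RankOne Cfsg.Agent.CpAutTh.Local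
  Cfsg.Agent.CpAutTh.Mid Cfsg.Agent.CpAutTh.ThreePerm Cfsg.Agent.CpAutTh.ThreeE
open Cfsg.Agent.BpSpor.ThCent Cfsg.Agent.BpSpor.ThThree
open Cfsg.Agent.ThFive.Five Cfsg.Agent.ThFive
open Cfsg.Agent.H513.NilpTh Cfsg.Agent.H513.NilpTools Cfsg.Agent.H972
open Cfsg.Agent.H58.Rec

universe u v

/-! ### The alternating group of degree nine -/

/-- the divisors of `n` between 2 and 9 -/
theorem cyc_dvd {σ : Equiv.Perm (Fin 9)} {n : ℕ} (h : orderOf σ = n) {i : ℕ} (hi : i ∈ σ.cycleType) :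
    i ∣ n ∧ 2 ≤ i ∧ i ≤ 9 := by
  refine ⟨?_, Equiv.Perm.two_le_of_mem_cycleType hi, ?_⟩
  · rw [← h]
    exact Equiv.Perm.dvd_of_mem_cycleType hi
  · have h1 := Multiset.single_le_sum (fun _ _ => Nat.zero_le _) i hi
    have h2 := σ.sum_cycleType_le
    rw [Fintype.card_fin] at h2
    omega

theorem no27 (σ : Equiv.Perm (Fin 9)) : orderOf σ ≠ 27 := by
  intro h
  have h1 : σ.cycleType.lcm ∣ 9 := by
    apply Multiset.lcm_dvd.2
    intro i hi
    obtain ⟨h1, h2, h3⟩ := cyc_dvd h hi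
    interval_cases i <;> revert h1 <;> decide
  rw [Equiv.Perm.lcm_cycleType, h] at h1
  revert h1
  decide

theorem sum_le (σ : Equiv.Perm (Fin 9)) : σ.cycleType.sum ≤ 9 := by
  have h2 := σ.sum_cycleType_le
  rwa [Fintype.card_fin] at h2

theorem no21 (σ : Equiv.Perm (Fin 9)) : orderOf σ ≠ 21 := by
  intro h
  by_cases h7 : 7 ∈ σ.cycleType
  · obtain ⟨m, hm⟩ := Multiset.exists_cons_of_mem h7
    have hs := sum_le σ
    rw [hm, Multiset.sum_cons] at hs
    have h1 : σ.cycleType.lcm ∣ 7 := by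
      apply Multiset.lcm_dvd.2
      intro i hi
      obtain ⟨h1, h2, h3⟩ := cyc_dvd h hi
      rw [hm, Multiset.mem_cons] at hi
      rcases hi with rfl | hi
      · exact dvd_rfl
      · have h4 := Multiset.single_le_sum (fun _ _ => Nat.zero_le _) i hi
        have h5 : i = 2 := by omega
        subst h5
        revert h1
        decide
    rw [Equiv.Perm.lcm_cycleType, h] at h1
    revert h1
    decide
  · have h1 : σ.cycleType.lcm ∣ 3 := by
      apply Multiset.lcm_dvd.2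
      intro i hi
      obtain ⟨h1, h2, h3⟩ := cyc_dvd h hi
      interval_cases i <;> first | exact absurd hi h7 | (revert h1; decide)
    rw [Equiv.Perm.lcm_cycleType, h] at h1
    revert h1
    decide

theorem no20 (σ : Equiv.Perm (Fin 9)) (hsg : Equiv.Perm.sign σ = 1) : orderOf σ ≠ 20 := by
  intro h
  by_cases h5 : 5 ∈ σ.cycleType
  · obtain ⟨m, hm⟩ := Multiset.exists_cons_of_mem h5
    have hs := sum_le σ
    rw [hm, Multiset.sum_cons] at hs
    by_cases h4 : 4 ∈ m
    · obtain ⟨l, hl⟩ := Multiset.exists_cons_of_mem h4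
      rw [hl, Multiset.sum_cons] at hs
      have hl0 : l = 0 := by
        rw [Multiset.eq_zero_iff_forall_notMem]
        intro i hi
        have h6 := Multiset.single_le_sum (fun _ _ => Nat.zero_le _) i hi
        have h7 : i ∈ σ.cycleType := by rw [hm, hl]; simp [hi]
        have h8 := Equiv.Perm.two_le_of_mem_cycleType h7
        omega
      have h6 := Equiv.Perm.sign_of_cycleType σ
      rw [hm, hl, hl0, hsg] at h6
      revert h6
      decide
    · have h1 : σ.cycleType.lcm ∣ 10 := by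
        apply Multiset.lcm_dvd.2
        intro i hi
        obtain ⟨h1, h2, h3⟩ := cyc_dvd h hi
        rw [hm, Multiset.mem_cons] at hi
        rcases hi with rfl | hi
        · decide
        · have h6 := Multiset.single_le_sum (fun _ _ => Nat.zero_le _) i hi
          have h7 : i ≤ 4 := by omega
          interval_cases i
          · decide
          · revert h1; decide
          · exact absurd hi h4
      rw [Equiv.Perm.lcm_cycleType, h] at h1
      revert h1
      decide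
  · have h1 : σ.cycleType.lcm ∣ 4 := by
      apply Multiset.lcm_dvd.2
      intro i hi
      obtain ⟨h1, h2, h3⟩ := cyc_dvd h hi
      interval_cases i <;> first | exact absurd hi h5 | (revert h1; decide)
    rw [Equiv.Perm.lcm_cycleType, h] at h1
    revert h1
    decide

theorem alt9 (σ : alternatingGroup (Fin 9)) {n : ℕ} (hn : n = 20 ∨ n = 21 ∨ n = 27) : ¬ n ∣ orderOf σ := by
  rintro ⟨k, hk⟩
  have hpos := orderOf_pos σ
  have hk0 : k ≠ 0 := by rintro rfl; omega
  have h1 : orderOf (σ ^ k) = n := by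
    rw [orderOf_pow_of_dvd hk0 (by rw [hk]; exact dvd_mul_left k n), hk]
    exact Nat.mul_div_cancel _ (Nat.pos_of_ne_zero hk0)
  rw [← Subgroup.orderOf_coe] at h1
  rcases hn with rfl | rfl | rfl
  · exact no20 _ (Equiv.Perm.mem_alternatingGroup.1 (σ ^ k).2) h1
  · exact no21 _ h1
  · exact no27 _ h1


/-! ### Generic part -/

section Gen

variable {G : Type u} [Group G] {γ : ℕ → G} (h : Ctx γ)
  {f : sub γ isC →* alternatingGroup (Fin 9)} (F : Epi γ f)
include h F

/-- odd divisors of the order survive -/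
theorem odd_dvd {x : sub γ isC} {n : ℕ} (hn : Odd n) (hd : n ∣ orderOf x) : n ∣ orderOf (f x) := by
  have h1 : x ^ orderOf (f x) ∈ f.ker := by rw [MonoidHom.mem_ker, map_pow, pow_orderOf_eq_one]
  obtain ⟨k, hk⟩ := ker_two h F ⟨_, h1⟩
  have h2 : (x ^ orderOf (f x)) ^ 2 ^ k = 1 := congrArg Subtype.val hk
  rw [← pow_mul, ← orderOf_dvd_iff_pow_eq_one] at h2
  exact Nat.Coprime.dvd_of_dvd_mul_right (Nat.Coprime.pow_right k (Nat.coprime_two_right.2 hn)) (hd.trans h2)

variable (hone : ∀ u : G, orderOf u = 2 → ∃ g : G, g * u * g⁻¹ = γ 1)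
include hone

omit F in
/-- elements of even order are conjugate into `C(γ 1)` -/
theorem exists_inC {g : G} {m : ℕ} (hm : 0 < m) (hg : orderOf g = 2 * m) :
    ∃ x : sub γ isC, orderOf x = 2 * m ∧ ((x : G)) ^ m = γ 1 := by
  have h1 : orderOf (g ^ m) = 2 := by
    rw [orderOf_pow_of_dvd hm.ne' (by rw [hg]; exact dvd_mul_left m 2), hg]
    exact Nat.mul_div_cancel _ hm
  obtain ⟨c, hc⟩ := hone _ h1
  rw [← conj_pow] at hc
  have h2 : c * g * c⁻¹ ∈ sub γ isC := by
    rw [h.mem_C, ← hc]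
    exact ((Commute.refl (c * g * c⁻¹)).pow_right m).eq
  refine ⟨⟨_, h2⟩, ?_, hc⟩
  rw [Subgroup.orderOf_mk, ← hg]
  exact MulEquiv.orderOf_eq (MulAut.conj c) g

theorem no42 : ¬ HasOrd G 42 := by
  rintro ⟨g, hg⟩
  obtain ⟨x, hx, -⟩ := exists_inC h hone (m := 21) (by norm_num) hg
  exact alt9 (f x) (Or.inr (Or.inl rfl)) (odd_dvd h F (by decide) (by rw [hx]; norm_num))

theorem no54 : ¬ HasOrd G 54 := by
  rintro ⟨g, hg⟩
  obtain ⟨x, hx, -⟩ := exists_inC h hone (m := 27) (by norm_num) hg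
  exact alt9 (f x) (Or.inr (Or.inr rfl)) (odd_dvd h F (by decide) (by rw [hx]; norm_num))

theorem no40 : ¬ HasOrd G 40 := by
  rintro ⟨g, hg⟩
  obtain ⟨x, hx, hx20⟩ := exists_inC h hone (m := 20) (by norm_num) hg
  have h5 : 5 ∣ orderOf (f x) := odd_dvd h F (by decide) (by rw [hx]; norm_num)
  have h20 := alt9 (f x) (Or.inl rfl)
  have h40 : orderOf (f x) ∣ 2 * 20 := hx ▸ orderOf_map_dvd f x
  have h10 : orderOf (f x) ∣ 10 := by
    obtain ⟨k, hk⟩ := h5
    rw [hk] at h20 h40 ⊢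
    have h1 : k ∣ 8 := by
      have : 5 * k ∣ 5 * 8 := h40
      exact Nat.dvd_of_mul_dvd_mul_left (by norm_num) this
    have h2 : k ≤ 8 := Nat.le_of_dvd (by norm_num) h1
    interval_cases k <;> revert h20 h40 h1 <;> decide
  have h1 : x ^ 10 ∈ f.ker := by
    rw [MonoidHom.mem_ker, map_pow, ← orderOf_dvd_iff_pow_eq_one]
    exact h10
  have h2 : orderOf (x ^ 8) = 5 := by
    rw [orderOf_pow_of_dvd (by norm_num) (by rw [hx]; norm_num), hx]
  obtain ⟨c, hc⟩ := exists_rep_five h F h2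
  have h3 : c * x ^ 10 * c⁻¹ ∈ f.ker := (MonoidHom.normal_ker f).conj_mem _ h1 c
  have h4 : ((c * x ^ 10 * c⁻¹ : sub γ isC) : G) * ev γ X5 = ev γ X5 * ((c * x ^ 10 * c⁻¹ : sub γ isC) : G) := by
    have h5 : (c * x ^ 10 * c⁻¹) * (c * x ^ 8 * c⁻¹) = (c * x ^ 8 * c⁻¹) * (c * x ^ 10 * c⁻¹) := by
      calc (c * x ^ 10 * c⁻¹) * (c * x ^ 8 * c⁻¹) = c * (x ^ 10 * x ^ 8) * c⁻¹ := by group
        _ = c * (x ^ 8 * x ^ 10) * c⁻¹ := by rw [((Commute.refl x).pow_pow 10 8).eq]
        _ = _ := by group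
    rw [hc] at h5
    exact congrArg Subtype.val h5
  have h5 := inv_ker h chk5 fix5 ((mem_ker F).1 h3) h4
  have h6 : (c * x ^ 10 * c⁻¹) ^ 2 = 1 := by
    apply Subtype.ext
    rw [Subgroup.coe_pow]
    rcases h5 with h5 | h5
    · rw [h5, one_pow]; rfl
    · rw [h5, pow_two, h.aa]; rfl
  rw [conj_pow, conj_eq_one_iff, ← pow_mul, ← orderOf_dvd_iff_pow_eq_one, hx] at h6
  revert h6
  norm_num

/-- **modules in characteristic two** -/
theorem kill_two' {x y : G} (hx5 : x ^ 5 = 1) (hy5 : y ^ 5 = 1) (hxz : x * ev γ X5 = ev γ X5 * x)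
    (hyz : y * ev γ X5 = ev γ X5 * y) (hxy : x * y = y * x * ev γ X5) (hax : γ 1 * x * (γ 1)⁻¹ = x⁻¹)
    (hay : γ 1 * y * (γ 1)⁻¹ = y⁻¹) (hinv : ∀ u : G, orderOf u = 5 → ∃ t : G, orderOf t = 2 ∧ t * u = u * t)
    {Y' : Type v} [Group Y'] [Finite Y'] {τ : Y' →* G} (hm : Mod τ 2) : HasOrd Y' 40 := by
  have hfin := h.fin
  have h5F : Fact (Nat.Prime 5) := ⟨Nat.prime_five⟩
  obtain ⟨N, hN⟩ := (sit5 h F).core
  have hcr := Cr.of_core hN
  have hZ := hcr.normalZ
  set X : ↥(centralizer ({ev γ X5} : Set G)) := ⟨x, mem_centralizer_singleton_iff.2 hxz⟩ with hX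
  set Y : ↥(centralizer ({ev γ X5} : Set G)) := ⟨y, mem_centralizer_singleton_iff.2 hyz⟩ with hY
  have hXN : X ∈ N := hN.mem_of_inv (m := 5) (Subtype.ext hax) (by decide) (Subtype.ext hx5)
  have hYN : Y ∈ N := hN.mem_of_inv (m := 5) (Subtype.ext hay) (by decide) (Subtype.ext hy5)
  have hXY' : X * Y = Y * X * xx γ X5 := Subtype.ext hxy
  have hz1 : xx γ X5 ≠ 1 := by
    intro h1
    have h2 := hcr.oz
    rw [h1, orderOf_one] at h2
    norm_num at h2
  have hXY : X * Y ≠ Y * X := by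
    rw [hXY']
    intro h1
    exact hz1 (mul_eq_left.1 h1)
  obtain ⟨hinvN, hcomm⟩ := hN.quot
  have hA25 := hcr.card_A (fun hd => by
    have h1 := hd.trans (card_subgroup_dvd_card _)
    rw [h.card] at h1
    revert h1
    norm_num) hXN (Subtype.ext hx5) hYN (Subtype.ext hy5) hXY hcomm
  set π := QuotientGroup.mk' (zpowers (xx γ X5)) with hπ
  set A := ThFive.tors (N.map π) hcomm 5 with hA
  set Q := A.comap π with hQ
  have hQcard : Nat.card ↥Q = 5 ^ 3 := by
    have h1 := card_comap_mk (zpowers (xx γ X5)) A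
    rw [hcr.cardZ, hA25] at h1
    rw [hQ, hπ, h1]
    norm_num
  have hNn : (N.map π).Normal := hN.normal.map _ (QuotientGroup.mk'_surjective _)
  have hAn : A.Normal := ThFive.tors_normal hNn
  have hQn : Q.Normal := hAn.comap π
  have hYQ : Y ∈ Q := ⟨⟨Y, hYN, rfl⟩, by rw [← map_pow, show Y ^ 5 = 1 from Subtype.ext hy5, map_one]⟩
  have hzQ : xx γ X5 ∈ Q := by
    show π (xx γ X5) ∈ A
    rw [hπ, QuotientGroup.mk'_apply, (QuotientGroup.eq_one_iff _).2 (mem_zpowers _)]
    exact one_mem A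
  set P := Q.map (centralizer ({ev γ X5} : Set G)).subtype with hP
  have hPc : Nat.card P = 5 ^ 3 := by
    rw [hP, card_map_of_injective (centralizer ({ev γ X5} : Set G)).subtype_injective, hQcard]
  have hPp : IsPGroup 5 P := IsPGroup.of_card hPc
  -- the element of order four
  have hc1 : ev γ Y5 * ev γ X5 = ev γ X5 * ev γ Y5 := by
    have h1 := ev_one h y5.1
    rw [ev_append, ev_append, ev_append, ev_iw h.inv, ev_iw h.inv] at h1
    rw [← mul_inv_eq_one, ← h1]
    group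
  have hc2 : ev γ Y5 * ev γ Y5 = γ 1 := by
    have h1 := ev_one h y5.2
    rw [ev_append, ev_append, ev_singleton, ← mul_assoc] at h1
    rw [mul_eq_one_iff_eq_inv.1 h1]
    exact inv_eq_of_mul_eq_one_right h.aa
  have hc4 : orderOf (ev γ Y5) = 4 := by
    have : Fact (Nat.Prime 2) := ⟨Nat.prime_two⟩
    refine orderOf_eq_prime_pow (p := 2) (n := 1) ?_ ?_
    · rw [pow_one, pow_two, hc2]
      exact h.a1
    · show ev γ Y5 ^ 4 = 1
      rw [show (4 : ℕ) = 2 * 2 from rfl, pow_mul, pow_two (ev γ Y5), hc2, pow_two, h.aa]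
  set C : ↥(centralizer ({ev γ X5} : Set G)) := ⟨ev γ Y5, mem_centralizer_singleton_iff.2 hc1⟩ with hC
  have hCC : C * C = sx h c5 := Subtype.ext hc2
  have ha5 : orderOf (ev γ X5) = 5 := by
    have := o5 h F
    rwa [Subgroup.orderOf_mk] at this
  -- the elementary abelian subgroup
  set Aa : Subgroup G := closure {ev γ X5, y} with hAa
  have hAle : Aa ≤ P := by
    rw [hAa, closure_le]
    rintro g (rfl | rfl)
    · exact ⟨_, hzQ, rfl⟩
    · exact ⟨Y, hYQ, rfl⟩
  have hAcomm : ∀ a ∈ Aa, ∀ b ∈ Aa, a * b = b * a := by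
    have h1 : IsMulCommutative Aa := by
      apply isMulCommutative_closure
      rintro a (rfl | rfl) b (rfl | rfl)
      · rfl
      · exact hyz.symm
      · exact hyz
      · rfl
    intro a ha b hb
    exact congrArg Subtype.val (h1.is_comm.comm ⟨a, ha⟩ ⟨b, hb⟩)
  have hApow : ∀ a ∈ Aa, a ^ 5 = 1 := by
    intro a ha
    induction ha using closure_induction with
    | mem g hg =>
      rcases hg with rfl | rfl
      · rw [← ha5, pow_orderOf_eq_one]
      · exact hy5
    | one => exact one_pow _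
    | mul g g' hg hg' ih ih' =>
      rw [(show Commute g g' from hAcomm g hg g' hg').mul_pow, ih, ih', one_mul]
    | inv g _ ih => rw [inv_pow, ih, inv_one]
  have hAe : IsElementaryAbelian 5 Aa :=
    ⟨⟨⟨fun a b => Subtype.ext (hAcomm a a.2 b b.2)⟩⟩, hApow⟩
  have hAc : 5 ^ 2 ≤ Nat.card Aa := by
    obtain ⟨k, hk⟩ := IsPGroup.iff_card.1 (hPp.to_le hAle)
    rw [hk]
    refine Nat.pow_le_pow_right (by norm_num) ?_
    by_contra hlt
    have h1 : Nat.card Aa ≤ 5 := by
      rw [hk]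
      calc 5 ^ k ≤ 5 ^ 1 := Nat.pow_le_pow_right (by norm_num) (by omega)
        _ = 5 := pow_one 5
    have h2 : zpowers (ev γ X5) = Aa := by
      refine eq_of_le_of_card_ge ?_ ?_
      · rw [zpowers_le]
        exact subset_closure (Or.inl rfl)
      · rw [Nat.card_zpowers, ha5]
        exact h1
    have h3 : y ∈ zpowers (ev γ X5) := by
      rw [h2]
      exact subset_closure (Or.inr rfl)
    obtain ⟨j, hj⟩ := h3
    apply hXY
    have h4 : Y = xx γ X5 ^ j := Subtype.ext hj.symm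
    rw [h4]
    exact ((show Commute X (xx γ X5) from hcr.z_comm X).zpow_right j).eq
  have key := hm.killS Nat.prime_two Nat.prime_five (by norm_num) ha5 (P := P) hPp ?_ (c := ev γ Y5) hc1 ?_ (n := 4) hc4
    (by norm_num) ?_ hAle hAe hAc ?_
  · exact key
  · rintro _ ⟨q, -, rfl⟩
    exact mem_centralizer_singleton_iff.1 q.2
  · apply mem_normalizer_fintype
    rintro _ ⟨q, hq, rfl⟩
    exact ⟨C * q * C⁻¹, hQn.conj_mem q hq C, rfl⟩
  · rintro j h0 hj _ ⟨q, hq, rfl⟩ ⟨k, hk⟩
    have h1 : q * C ^ j * q⁻¹ * (C ^ j)⁻¹ ∈ zpowers (xx γ X5) := ⟨k, Subtype.ext hk⟩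
    have h2 : Commute (π q) (π C ^ j) := by
      have h3 : π (q * C ^ j * q⁻¹ * (C ^ j)⁻¹) = 1 := (QuotientGroup.eq_one_iff _).2 h1
      rw [map_mul, map_mul, map_mul, map_inv, map_inv, map_pow] at h3
      have h4 := mul_inv_eq_one.1 h3
      exact mul_inv_eq_iff_eq_mul.1 h4
    have hss : π (sx h c5) * π (sx h c5) = 1 := by
      rw [← map_mul]
      have : sx h c5 * sx h c5 = 1 := Subtype.ext h.aa
      rw [this, map_one]
    have hCs : π C ^ 2 = π (sx h c5) := by rw [pow_two, ← map_mul, hCC]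
    have h3 : Commute (π q) (π (sx h c5)) := by
      interval_cases j
      · rw [← hCs]
        rw [pow_one] at h2
        exact h2.pow_right 2
      · rw [← hCs]
        exact h2
      · have h4 := h2.pow_right 2
        rw [← pow_mul, show 3 * 2 = 2 * 3 from rfl, pow_mul, hCs, pow_succ, pow_two, hss, one_mul] at h4
        exact h4
    have h4 := hinvN (π q) hq.1
    have h5 : π q = (π q)⁻¹ := by
      rw [← h4, ← h3.eq, mul_inv_cancel_right]
    have h6 : π q * π q = 1 := by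
      nth_rewrite 1 [h5]
      exact inv_mul_cancel _
    have h7 : (π q) ^ 5 = 1 := hq.2
    have h8 : π q = 1 := by
      have h9 : (π q) ^ 5 = (π q * π q) * (π q * π q) * π q := by
        simp only [pow_succ, pow_zero, one_mul, mul_assoc]
      rw [h6, one_mul, one_mul] at h9
      rw [← h9, h7]
    obtain ⟨m, hm'⟩ := mem_zpowers_iff.1 ((QuotientGroup.eq_one_iff q).1 h8)
    exact ⟨m, congrArg Subtype.val hm'⟩
  · intro a ha ha1
    have ho : orderOf a = 5 := orderOf_eq_prime (hApow a ha) ha1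
    obtain ⟨t, ht, hta⟩ := hinv a ho
    obtain ⟨g, -, h2⟩ := exists_pair h hone ho ht hta (P := fun z => z = ev γ X5) (fun y hy => by
      obtain ⟨c, hc⟩ := exists_rep_five h F hy
      exact ⟨c, congrArg Subtype.val hc⟩)
    refine ⟨g, ?_⟩
    rw [h2]
    exact mem_zpowers _

end Gen

/-! ### The group `Th` -/

section Th

theorem t42 : ¬ HasOrd Spor.Th 42 := by
  obtain ⟨f, F⟩ := CpAutTh.Local.exists_epi KFacts.Th.Main.ctx
  exact no42 KFacts.Th.Main.ctx F hone

theorem t54 : ¬ HasOrd Spor.Th 54 := by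
  obtain ⟨f, F⟩ := CpAutTh.Local.exists_epi KFacts.Th.Main.ctx
  exact no54 KFacts.Th.Main.ctx F hone

theorem t40 : ¬ HasOrd Spor.Th 40 := by
  obtain ⟨f, F⟩ := CpAutTh.Local.exists_epi KFacts.Th.Main.ctx
  exact no40 KFacts.Th.Main.ctx F hone

theorem t45 : ¬ HasOrd Spor.Th 45 := by
  have hfin := finite
  rintro ⟨g, hg⟩
  have h1 : orderOf (g ^ 9) = 5 := by
    rw [orderOf_pow_of_dvd (by norm_num) (by rw [hg]; norm_num), hg]
  have h2 : orderOf (g ^ 5) = 9 := by
    rw [orderOf_pow_of_dvd (by norm_num) (by rw [hg]; norm_num), hg]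
  obtain ⟨s, hs, hsx⟩ := involution _ h1
  apply not_nine h1 hs hsx.symm
  have h3 := orderOf_dvd_natCard (⟨g ^ 5, mem_centralizer_singleton_iff.2 ((Commute.refl g).pow_pow 5 9).eq⟩ :
    ↥(centralizer ({g ^ 9} : Set Spor.Th)))
  rwa [Subgroup.orderOf_mk, h2] at h3

/-- primes not dividing the order of the centralizer of an involution -/
theorem t_na {p : ℕ} (hp : 0 < p) (h : ¬ p ∣ 92897280) : ¬ HasOrd Spor.Th (2 * p) := by
  have hfin := finite
  rintro ⟨g, hg⟩
  have h1 : orderOf (g ^ p) = 2 := by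
    rw [orderOf_pow_of_dvd hp.ne' (by rw [hg]; exact dvd_mul_left p 2), hg]
    exact Nat.mul_div_cancel _ hp
  have h2 : orderOf (g ^ 2) = p := by
    rw [orderOf_pow_of_dvd (by norm_num) (by rw [hg]; exact dvd_mul_right 2 p), hg]
    exact Nat.mul_div_cancel_left _ (by norm_num)
  have h3 := orderOf_dvd_natCard (⟨g ^ 2, mem_centralizer_singleton_iff.2 ((Commute.refl g).pow_pow 2 p).eq⟩ :
    ↥(centralizer ({g ^ p} : Set Spor.Th)))
  rw [Subgroup.orderOf_mk, h2, card_inv h1] at h3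
  exact h h3

open Cfsg.Agent.H502.ThFiveP in
theorem kill_two {Y' : Type v} [Group Y'] [Finite Y'] {τ : Y' →* Spor.Th} (hm : Mod τ 2) : HasOrd Y' 40 := by
  have hfin := finite
  obtain ⟨f, F⟩ := CpAutTh.Local.exists_epi KFacts.Th.Main.ctx
  have h5F : Fact (Nat.Prime 5) := ⟨Nat.prime_five⟩
  have h2F : Fact (Nat.Prime 2) := ⟨Nat.prime_two⟩
  have hi : a⁻¹ = a := inv_eq_of_mul_eq_one_right aa
  have hax : a * x * a⁻¹ = x⁻¹ := by
    rw [hi, ← mul_eq_one_iff_eq_inv, mul_assoc]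
    exact ax
  have hay : a * y * a⁻¹ = y⁻¹ := by
    rw [hi, ← mul_eq_one_iff_eq_inv, mul_assoc]
    exact ay
  obtain ⟨g, h1, h2⟩ := exists_pair KFacts.Th.Main.ctx hone (orderOf_eq_prime z5 z1)
    (orderOf_eq_prime (by rw [pow_two]; exact aa) a1) az (P := fun z => z = ev gTh X5) (fun y hy => by
      obtain ⟨c, hc⟩ := exists_rep_five KFacts.Th.Main.ctx F hy
      exact ⟨c, congrArg Subtype.val hc⟩)
  have e1 : MulAut.conj g a = gTh 1 := h1
  have e2 : MulAut.conj g z = ev gTh X5 := h2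
  refine kill_two' KFacts.Th.Main.ctx F hone (x := MulAut.conj g x) (y := MulAut.conj g y) ?_ ?_ ?_ ?_ ?_ ?_ ?_
    (fun u hu => involution u hu) hm
  · rw [← map_pow, x5, map_one]
  · rw [← map_pow, H502.ThFiveP.y5, map_one]
  · rw [← e2, ← map_mul, ← map_mul, xz]
  · rw [← e2, ← map_mul, ← map_mul, yz]
  · rw [← e2, ← map_mul, ← map_mul, ← map_mul, xy]
  · rw [← e1, ← map_inv, ← map_mul, ← map_mul, hax, map_inv]
  · rw [← e1, ← map_inv, ← map_mul, ← map_mul, hay, map_inv]

theorem iso19 : Cfsg.Agent.H455.Isolated.Isolated Spor.Th 19 := by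
  have hfin := finite
  exact isolated_of_sc (by norm_num) Cfsg.Agent.H981.SCTh.sc_th

theorem frob : HasFrob Spor.Th 19 18 := by
  have hfin := finite
  exact hasFrob_of_isolated (N := 90745943887872000) (by norm_num) card iso19 (by norm_num) (by norm_num) (by norm_num)
    (by decide +kernel)

end Th

end Cfsg.Agent.H574.Rec.Th
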