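import Cfsg.Agent.H58.Rec.Tools
import Cfsg.Agent.H574.Rec.ThFacts
import Cfsg.Agent.S2083

/-!
# S3484, row Th (helper574): the Thompson group is recognizable by its element orders

Good prime 19 (`m = 31`). The primes 13 and 31 are not adjacent to 2, so they do not divide the order of the kernel,
and the Sylow 2-subgroup of `S` shows that they do not divide the index of `S`: hence `S = Th`, `G / K = Th` as
`Out(Th) = 1`. The Frobenius group `19 : 18` kills 3, 5, 7; the prime 2 is `Th.kill_two`.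
-/

set_option autoImplicit false
set_option linter.unusedSectionVars false

namespace Cfsg.Agent.H574.Rec

open Subgroup Cfsg Cfsg.Agent.H58.Rec Cfsg.Agent.H455.Isolated Cfsg.Agent.OrdDiv Cfsg.Agent.H436

universe u v

/-- **A prime not adjacent to `q` does not divide the index of the socle** if the order of a Sylow `q`-subgroup of `S` is
not `1` modulo `p`. -/
theorem _root_.Cfsg.Agent.H58.Rec.Red.not_dvd_index2 {G : Type u} [Group G] [Finite G] {X : Type v} [Group X]
    {π : G →* X} {S : Subgroup X} {s : ℕ} (h : Red π S s) {p q k : ℕ} (hp : p.Prime) (hq : q.Prime) (hqp : q ≠ p)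
    (hno : ¬ HasOrd G (p * q)) (hk : q ^ k ∣ Nat.card S) (hk' : ¬ q ^ (k + 1) ∣ Nat.card S) (hne : q ^ k % p ≠ 1) :
    ¬ p ∣ S.index := by
  classical
  intro hsi
  have hfp : Fact p.Prime := ⟨hp⟩
  have hfq : Fact q.Prime := ⟨hq⟩
  have hfX : Finite X := Finite.of_surjective π h.surj
  have hSn := h.normal
  obtain ⟨Q⟩ : Nonempty (Sylow q S) := inferInstance
  have hQc : Nat.card Q = q ^ k := by
    obtain ⟨m, hm⟩ := hk
    have hpos : 0 < Nat.card S := Nat.card_pos
    have hmq : ¬ q ∣ m := by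
      rintro ⟨j, rfl⟩
      exact hk' ⟨j, by rw [hm, pow_succ]; ring⟩
    rw [Q.card_eq_multiplicity, hm, Nat.factorization_mul (pow_ne_zero _ hq.ne_zero) (by rintro rfl; simp at hm; omega),
      Nat.Prime.factorization_pow hq]
    simp [Nat.factorization_eq_zero_of_not_dvd hmq]
  set Q' : Subgroup X := (Q : Subgroup S).map S.subtype with hQ'
  have hQ'c : Nat.card Q' = q ^ k := by
    rw [hQ', Subgroup.card_map_of_injective S.subtype_injective]
    exact hQc
  have hsup : normalizer (Q' : Set X) ⊔ S = ⊤ := Sylow.normalizer_sup_eq_top Q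
  set N := normalizer (Q' : Set X) with hN
  have hsN : p ∣ Nat.card N := by
    have h2 : S.index = S.relIndex N := by
      rw [← Subgroup.relIndex_sup_right, hsup, Subgroup.relIndex_top_right]
    rw [h2] at hsi
    exact hsi.trans (Subgroup.relIndex_dvd_card S N)
  obtain ⟨x, hx⟩ := exists_prime_orderOf_dvd_card' (G := N) p hsN
  -- the action of `x` on `Q'`
  let φ : zpowers x →* MulAut Q' := (normalizerMonoidHom Q').comp (zpowers x).subtype
  let : MulAction (zpowers x) Q' := MulAction.compHom Q' φ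
  have hxp : IsPGroup p (zpowers x) := IsPGroup.of_card (n := 1) (by rw [Nat.card_zpowers, hx, pow_one])
  have h3 := hxp.card_modEq_card_fixedPoints Q'
  have h4 : Nat.card (MulAction.fixedPoints (zpowers x) Q') = 1 := by
    rw [Nat.card_eq_one_iff_unique]
    refine ⟨⟨?_⟩, ⟨⟨1, fun g => by
      show φ g 1 = 1
      exact map_one _⟩⟩⟩
    have key : ∀ a : MulAction.fixedPoints (zpowers x) Q', (a : Q') = 1 := by
      rintro ⟨a, ha⟩
      by_contra ha1
      have h5 : ((x : N) : X) * a * ((x : N) : X)⁻¹ = a := by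
        have := congrArg Subtype.val (ha ⟨x, mem_zpowers x⟩)
        exact this
      have h6 : Commute ((x : N) : X) (a : X) := mul_inv_eq_iff_eq_mul.1 h5
      have h7 : orderOf (x : X) = p := by rw [Subgroup.orderOf_coe, hx]
      have hpos := orderOf_pos (a : X)
      have h8 : (a : X) ≠ 1 := fun h9 => ha1 (Subtype.ext h9)
      have hQp : IsPGroup q Q' := Q.2.map _
      obtain ⟨j, hj⟩ := (IsPGroup.iff_orderOf.mp hQp) a
      rw [← Subgroup.orderOf_coe] at hj
      have hj0 : j ≠ 0 := by
        rintro rfl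
        rw [pow_zero, orderOf_eq_one_iff] at hj
        exact h8 hj
      have h9 : HasOrd X (p * q ^ j) := hasOrd_mul h6 h7 hj
        (Nat.Coprime.pow_right _ ((Nat.coprime_primes hp hq).2 hqp.symm))
      have h10 : HasOrd X (p * q) := h9.of_dvd (Nat.mul_dvd_mul_left p (dvd_pow_self q hj0))
      exact hno (h.hasOrd h10)
    intro a b
    exact Subtype.ext ((key a).trans (key b).symm)
  rw [h4, hQ'c] at h3
  apply hne
  have h5 : q ^ k % p = 1 % p := h3
  rwa [Nat.mod_eq_of_lt hp.one_lt] at h5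

/-- the test: `p ∤ n`, and the largest power of 2 dividing `n` is not `1` modulo `p` -/
def chkB (n p : ℕ) : Bool := !(Nat.beq (n % p) 0) && Nat.beq (n % 2 ^ (vl 2 n)) 0 &&
  !(Nat.beq (n % 2 ^ (vl 2 n + 1)) 0) && !(Nat.beq (2 ^ (vl 2 n) % p) 1)

/-- **Excluding a candidate**: the prime `p` of `|G|` is not adjacent to 2 and does not divide `|S|`. -/
theorem _root_.Cfsg.Agent.H58.Rec.Red.absurd2 {G : Type u} [Group G] [Finite G] {X : Type v} [Group X] {π : G →* X}
    {S : Subgroup X} {s n : ℕ} (h : Red π S s) (hn : Nat.card S = n) {p : ℕ} (hp : p.Prime) (hp2 : p ≠ 2)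
    (hpG : p ∣ Nat.card G) (hno : ¬ HasOrd G (2 * p)) (hc : chkB n p = true) : False := by
  unfold chkB at hc
  simp only [Bool.and_eq_true, Bool.not_eq_true', ← Bool.not_eq_true, Nat.beq_eq] at hc
  obtain ⟨⟨⟨h1, h2⟩, h3⟩, h4⟩ := hc
  have h5 : ¬ p ∣ S.index := h.not_dvd_index2 hp Nat.prime_two (Ne.symm hp2) (by rwa [mul_comm]) (k := vl 2 n)
    (by rw [hn]; exact Nat.dvd_of_mod_eq_zero h2) (by rw [hn]; exact fun hd => h3 (Nat.mod_eq_zero_of_dvd hd)) h4
  have h6 := h.dvd_simple hp hpG (h.kill_na hp hp2 hno) h5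
  rw [hn] at h6
  exact h1 (Nat.mod_eq_zero_of_dvd h6)

namespace Th

/-- the names -/
theorem lst_eq : lst [2, 3, 5, 7, 13, 19, 31] [19] 31 37 =
    [Grp.th, Grp.psu 3 8, Grp.psu 4 8, Grp.psl 3 7, Grp.psl 4 7, Grp.psl 2 19, Grp.psu 3 19, Grp.psu 3 31] := by
  decide +kernel

theorem primes {r : ℕ} (hr : r.Prime) (hd : r ∣ 90745943887872000) : r ∈ [2, 3, 5, 7, 13, 19, 31] := by
  have h1 : r ∣ (2 * 3 * 5 * 7 * 13 * 19 * 31) ^ 15 := hd.trans (by norm_num)
  have h2 := hr.dvd_of_dvd_pow h1
  have key : ∀ p : ℕ, p.Prime → r ∣ p → r = p := fun p hp h => (Nat.prime_dvd_prime_iff_eq hr hp).1 h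
  simp only [List.mem_cons, List.not_mem_nil, or_false]
  rcases hr.dvd_mul.1 h2 with h2 | h2
  · rcases hr.dvd_mul.1 h2 with h2 | h2
    · rcases hr.dvd_mul.1 h2 with h2 | h2
      · rcases hr.dvd_mul.1 h2 with h2 | h2
        · rcases hr.dvd_mul.1 h2 with h2 | h2
          · rcases hr.dvd_mul.1 h2 with h2 | h2
            · exact Or.inl (key 2 (by norm_num) h2)
            · exact Or.inr (Or.inl (key 3 (by norm_num) h2))
          · exact Or.inr (Or.inr (Or.inl (key 5 (by norm_num) h2)))
        · exact Or.inr (Or.inr (Or.inr (Or.inl (key 7 (by norm_num) h2))))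
      · exact Or.inr (Or.inr (Or.inr (Or.inr (Or.inl (key 13 (by norm_num) h2)))))
    · exact Or.inr (Or.inr (Or.inr (Or.inr (Or.inr (Or.inl (key 19 (by norm_num) h2))))))
  · exact Or.inr (Or.inr (Or.inr (Or.inr (Or.inr (Or.inr (key 31 (by norm_num) h2))))))

end Th

/-- **Row Th.** -/
theorem rec_th (hN : NameHyp.{u}) {G : Type u} [Group G] [Finite G] {M : Type v} [Group M] [Finite M]
    (hM : Spor.IsoTh M) (h : Same G M) : Nonempty (G ≃* M) := by
  obtain ⟨e0⟩ := hM
  have hfT : Finite Spor.Th := H513.NilpTh.finite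
  have hcT : Nat.card Spor.Th = 90745943887872000 := H513.NilpTh.card
  -- replace `M` by `Th`
  have hT : Same G Spor.Th := fun n => (h n).trans ⟨fun h1 => h1.congr e0, fun h1 => h1.congr e0.symm⟩
  suffices hG : Nonempty (G ≃* Spor.Th) by
    obtain ⟨e⟩ := hG
    exact ⟨e.trans e0.symm⟩
  have n26 : ¬ HasOrd Spor.Th (2 * 13) := Th.t_na (by norm_num) (by norm_num)
  have n62 : ¬ HasOrd Spor.Th (2 * 31) := Th.t_na (by norm_num) (by norm_num)
  have hiso := isolated_iff.1 Th.iso19
  have hgT : Good Spor.Th 19 :=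
    { prime := by norm_num
      ne2 := by norm_num
      dvd := by rw [hcT]; norm_num
      iso := Th.iso19
      ex := ⟨31, by decide, by norm_num, (hasOrd_prime (by norm_num)).2 (by rw [hcT]; norm_num), n62⟩ }
  have hsol : ¬ Group.IsSolvable G :=
    not_solvable_of_same hT (r := 19) (s := 31) (t := 2) (by norm_num) (by norm_num) (by norm_num) (by norm_num)
      (by norm_num) (by norm_num) (by rw [hcT]; norm_num) (by rw [hcT]; norm_num) (by rw [hcT]; norm_num)
      (hiso 31 (by norm_num) (by norm_num)) (hiso 2 (by norm_num) (by norm_num)) n62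
  have hgG := hgT.of_same hT
  obtain ⟨X, _, _, π, S, hR⟩ := exists_red hsol ((dvd_of_same hT Nat.prime_two).2 (by rw [hcT]; norm_num)) hgG
  have hR0 := hR 19 hgG
  have hSs : IsSimpleGroup S := hR0.simple
  have g26 : ¬ HasOrd G (2 * 13) := fun h1 => n26 ((hT _).1 h1)
  have g62 : ¬ HasOrd G (2 * 31) := fun h1 => n62 ((hT _).1 h1)
  have d13 : 13 ∣ Nat.card G := (dvd_of_same hT (by norm_num)).2 (by rw [hcT]; norm_num)
  have d31 : 31 ∣ Nat.card G := (dvd_of_same hT (by norm_num)).2 (by rw [hcT]; norm_num)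
  obtain ⟨g, hgm, hgn⟩ := hR0.exists_name hN (ps := [2, 3, 5, 7, 13, 19, 31]) (rs := [19]) (B := 31) (N := 37)
    (by norm_num) (by decide) (by norm_num) (by decide)
    (fun q hq hd => Th.primes hq (hcT ▸ (dvd_of_same hT hq).1 hd))
    (by
      intro r hr
      rw [List.mem_singleton] at hr
      rw [hr]
      exact hR0.dvd)
  rw [Th.lst_eq] at hgm
  have hno13 : ∀ g', g = g' → chkB (ordN g') 13 = true → False := by
    rintro _ rfl hc
    exact hR0.absurd2 hgn.ord (by norm_num) (by norm_num) d13 g26 hc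
  have hno31 : ∀ g', g = g' → chkB (ordN g') 31 = true → False := by
    rintro _ rfl hc
    exact hR0.absurd2 hgn.ord (by norm_num) (by norm_num) d31 g62 hc
  have hgth : g = Grp.th := by
    simp only [List.mem_cons, List.not_mem_nil, or_false] at hgm
    rcases hgm with hg | hg | hg | hg | hg | hg | hg | hg
    · exact hg
    · exact (hno13 _ hg (by decide +kernel)).elim
    · exact (hno31 _ hg (by decide +kernel)).elim
    · exact (hno13 _ hg (by decide +kernel)).elim
    · exact (hno13 _ hg (by decide +kernel)).elim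
    · exact (hno13 _ hg (by decide +kernel)).elim
    · exact (hno13 _ hg (by decide +kernel)).elim
    · exact (hno13 _ hg (by decide +kernel)).elim
  subst hgth
  obtain ⟨e⟩ : Spor.IsoTh S := hgn.real
  have hout : Nat.card (Cfsg.Out Spor.Th) = 1 := Cfsg.Agent.S2083.result
  refine finish hR0 ?_ e (Or.inl hout)
  have hFS : HasFrob S 19 18 := Th.frob.congr e.symm
  intro p hp hpG
  have hpm := Th.primes hp (hcT ▸ (dvd_of_same hT hp).1 hpG)
  simp only [List.mem_cons, List.not_mem_nil, or_false] at hpm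
  rcases hpm with rfl | rfl | rfl | rfl | rfl | rfl | rfl
  · -- `p = 2`
    intro hpk
    obtain ⟨Y, _, _, τ, f, hm, hf⟩ := hR0.exists_mod hp hpk
    have hfX : Finite X := Finite.of_surjective π hR0.surj
    have hSn := hR0.normal
    have h1 := index_dvd_out S hR0.cent
    rw [Cfsg.Agent.H548.Crit.card_out_congr e, hout, Nat.dvd_one, index_eq_one] at h1
    let e2 : X ≃* Spor.Th := ((topEquiv (G := X)).symm.trans (MulEquiv.subgroupCongr h1.symm)).trans e
    have h2 := Th.kill_two (hm.comp e2)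
    exact Th.t40 ((hT _).1 (h2.of_surjective f hf))
  · exact hR0.kill' hp (q := 19) (n := 18) (by norm_num) (by norm_num) hFS fun h1 => Th.t54 ((hT _).1 h1)
  · exact hR0.kill' hp (q := 19) (n := 18) (by norm_num) (by norm_num) hFS fun h1 =>
      Th.t45 (((hT _).1 h1).of_dvd (by norm_num))
  · exact hR0.kill' hp (q := 19) (n := 18) (by norm_num) (by norm_num) hFS fun h1 =>
      Th.t42 (((hT _).1 h1).of_dvd (by norm_num))
  · exact hR0.kill_na hp (by norm_num) g26
  · exact hR0.not_dvd
  · exact hR0.kill_na hp (by norm_num) g62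

end Cfsg.Agent.H574.Rec
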